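import Cfsg.Agent.GraphForms.Core
import Cfsg.Agent.AutPOmega.Forms
import Cfsg.Agent.Classical.QuadBasis
import Cfsg.Agent.Classical.AltBasis
import Cfsg.Agent.Classical.SympGroup

/-!
Classification of symmetric and alternating matrices over finite fields up to congruence and scaling, and the
matrices of the standard forms.
-/

set_option autoImplicit false

namespace Cfsg.Agent.GraphForms

open Matrix Module QuadraticMap Classical.Quad

variable {K : Type*} [Field K] {ι κ : Type} [Fintype ι] [DecidableEq ι] [Fintype κ] [DecidableEq κ]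

/-- The matrix of the polar form. -/
def polMat (Q : QuadraticForm K (ι → K)) : Matrix ι ι K :=
  Matrix.of fun i j => polar Q (Pi.single i 1) (Pi.single j 1)

theorem dot_polMat (Q : QuadraticForm K (ι → K)) (u v : ι → K) : u ⬝ᵥ polMat Q *ᵥ v = polar Q u v := by
  have h : Matrix.toBilin' (polMat Q) = polarBilin Q := by
    refine LinearMap.BilinForm.ext_basis (Pi.basisFun K ι) fun i j => ?_
    rw [Pi.basisFun_apply, Pi.basisFun_apply, Matrix.toBilin'_single]
    rfl
  rw [← Matrix.toBilin'_apply', h]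
  rfl

theorem polMat_symm (Q : QuadraticForm K (ι → K)) : (polMat Q)ᵀ = polMat Q :=
  Matrix.ext fun _ _ => polar_comm Q _ _

theorem polMat_det {Q : QuadraticForm K (ι → K)} (hQ : (polarBilin Q).Nondegenerate) : (polMat Q).det ≠ 0 := by
  intro h0
  obtain ⟨v, hv, hv0⟩ := Matrix.exists_mulVec_eq_zero_iff.2 h0
  refine hv (eq_zero_of_polar hQ fun u => ?_)
  rw [polar_comm, ← dot_polMat, hv0, dotProduct_zero]

theorem quadSim_eq (h2 : (2 : K) ≠ 0) (Q : QuadraticForm K (ι → K)) :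
    Cfsg.Geo.quadSimilarityGroup (F := K) ⇑Q = simG (polMat Q) := by
  ext k
  rw [mem_simG]
  show (∃ c : Kˣ, ∀ v, Q (mval k *ᵥ v) = (c : K) * Q v) ↔ _
  refine exists_congr fun c => ⟨fun h => sim_iff.1 fun u v => ?_, fun h v => ?_⟩
  · rw [dot_polMat, dot_polMat, polar, polar, ← Matrix.mulVec_add, h, h, h]
    ring
  · have := sim_iff.2 h v v
    rw [dot_polMat, dot_polMat, polar_self', polar_self'] at this
    exact mul_left_cancel₀ h2 (by linear_combination this)

theorem gsp_eq (m : ℕ) : Cfsg.GSp m K = simG (Matrix.J (Fin m) K) := by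
  ext k
  rw [mem_simG]
  show (∃ c : Kˣ, ∀ u v, Cfsg.sympForm m K (mval k *ᵥ u) (mval k *ᵥ v) = (c : K) * Cfsg.sympForm m K u v) ↔ _
  exact exists_congr fun c => sim_iff

theorem J_det_ne_zero (m : ℕ) : (Matrix.J (Fin m) K).det ≠ 0 := (Matrix.isUnit_det_J (Fin m) K).ne_zero

theorem J_isAlt (m : ℕ) : IsAltMat (Matrix.J (Fin m) K) := fun v => by
  have := Classical.sympB_isAlt (m := m) (F := K) v
  rwa [Classical.sympB_apply] at this

theorem skew_isAlt (h2 : (2 : K) ≠ 0) {J : Matrix ι ι K} (hJ : Jᵀ = -J) : IsAltMat J := fun v => by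
  have h1 : v ⬝ᵥ J *ᵥ v = -(v ⬝ᵥ J *ᵥ v) := by
    conv_lhs => rw [Matrix.dotProduct_mulVec, ← Matrix.mulVec_transpose, hJ, dotProduct_comm, Matrix.neg_mulVec,
      dotProduct_neg]
  exact (mul_eq_zero.1 (show (2 : K) * (v ⬝ᵥ J *ᵥ v) = 0 by linear_combination h1)).resolve_left h2

/-- Alternating invertible matrices. -/
theorem alt_sim {J : Matrix ι ι K} (hA : IsAltMat J) (hd : J.det ≠ 0) :
    ∃ m, Fintype.card ι = 2 * m ∧ Sim J (Matrix.J (Fin m) K) := by
  have hB : ∀ u v, Matrix.toBilin' J u v = u ⬝ᵥ J *ᵥ v := fun u v => Matrix.toBilin'_apply' J u v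
  have hA' : (Matrix.toBilin' J).IsAlt := fun v => (hB v v).trans (hA v)
  have hnd : (Matrix.toBilin' J).Nondegenerate := Matrix.Nondegenerate.toBilin'
    (Matrix.nondegenerate_of_det_ne_zero hd)
  obtain ⟨m, k, b, hef, hee, hff, hr⟩ := Classical.Alt.exists_basis_symp hA'
  rcases Nat.eq_zero_or_pos k with rfl | hk
  swap
  · exact absurd (hnd.1 _ (hr ⟨0, hk⟩)) (b.ne_zero _)
  let b' : Basis (Fin m ⊕ Fin m) K (ι → K) :=
    b.reindex ((Equiv.sumEmpty (Fin m ⊕ Fin m) (Fin 0)).trans (Equiv.sumComm (Fin m) (Fin m)))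
  refine ⟨m, ?_, sim_of_basis b' fun i j => ?_⟩
  · have := finrank_eq_card_basis b
    simp only [Module.finrank_pi, Fintype.card_sum, Fintype.card_fin] at this
    omega
  · have hfe : ∀ i j, Matrix.toBilin' J (b (Sum.inl (Sum.inr j))) (b (Sum.inl (Sum.inl i))) =
        -(if i = j then 1 else 0) := fun i j => by rw [← hef i j]; exact (LinearMap.IsAlt.neg hA' _ _).symm
    rw [← hB]
    rcases i with i | i <;> rcases j with j | j <;>
      simp only [b', Basis.reindex_apply, Equiv.symm_trans_apply, Equiv.sumComm_symm, Equiv.sumComm_apply,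
        Sum.swap_inl, Sum.swap_inr, Equiv.sumEmpty_symm_apply]
    · rw [hff]; simp [Matrix.J]
    · rw [hfe]; simp [Matrix.J, Matrix.one_apply, eq_comm]
    · rw [hef]; simp [Matrix.J, Matrix.one_apply]
    · rw [hee]; simp [Matrix.J]

theorem sim_J_J [Finite K] {m m' : ℕ} (h : Sim (Matrix.J (Fin m) K) (Matrix.J (Fin m') K)) : m = m' := by
  have := h.card_eq
  simp only [Fintype.card_sum, Fintype.card_fin] at this
  omega

/-- Congruence of symmetric matrices with the same discriminant. -/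
theorem exists_congr_sym [Finite K] (h2 : (2 : K) ≠ 0) {n : ℕ} {J J' : Matrix (Fin n) (Fin n) K} (hJ : Jᵀ = J)
    (hJ' : J'ᵀ = J') (hd : J.det ≠ 0) (hd' : J'.det ≠ 0) (hsq : IsSquare (J.det * J'.det)) :
    ∃ P : GL (Fin n) K, (mval P)ᵀ * J * mval P = J' := by
  let Q : Matrix (Fin n) (Fin n) K → QuadraticForm K (Fin n → K) := fun M =>
    LinearMap.BilinMap.toQuadraticMap (Matrix.toBilin' M)
  have hp : ∀ M : Matrix (Fin n) (Fin n) K, Mᵀ = M → ∀ u v, polar (Q M) u v = 2 * (u ⬝ᵥ M *ᵥ v) := by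
    intro M hM u v
    show polar (LinearMap.BilinMap.toQuadraticMap (Matrix.toBilin' M)) u v = _
    rw [LinearMap.BilinMap.polar_toQuadraticMap, Matrix.toBilin'_apply', Matrix.toBilin'_apply',
      Matrix.dotProduct_mulVec v M u, ← Matrix.mulVec_transpose, hM, dotProduct_comm (M *ᵥ v) u, two_mul]
  have hnd : ∀ M : Matrix (Fin n) (Fin n) K, Mᵀ = M → M.det ≠ 0 → (polarBilin (Q M)).Nondegenerate := by
    intro M hM hd
    refine nondeg_of fun v hv => Matrix.eq_zero_of_mulVec_eq_zero hd (funext fun i => ?_)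
    have h1 := hv (Pi.single i 1)
    rw [polar_comm, hp M hM, single_one_dotProduct] at h1
    exact (mul_eq_zero.1 h1).resolve_left h2
  have hmat : ∀ M : Matrix (Fin n) (Fin n) K, Mᵀ = M →
      (Matrix.of fun i j : Fin n => polar ⇑(Q M) (Pi.single i 1) (Pi.single j 1)) = (2 : K) • M := by
    intro M hM
    ext i j
    show polar (Q M) _ _ = _
    simp [hp M hM, Matrix.mulVec_single_one, single_dotProduct]
  obtain ⟨e, he⟩ := (isometric_iff_disc h2 (Q J') (Q J) (hnd J' hJ' hd') (hnd J hJ hd)).2 (by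
    rw [hmat J' hJ', hmat J hJ, Matrix.det_smul, Matrix.det_smul]
    obtain ⟨t, ht⟩ := hsq
    exact ⟨(2 : K) ^ Fintype.card (Fin n) * t, by linear_combination ((2 : K) ^ Fintype.card (Fin n)) ^ 2 * ht⟩)
  let P : Matrix (Fin n) (Fin n) K := LinearMap.toMatrix' e.toLinearMap
  have hPv : ∀ v, P *ᵥ v = e v := fun v => LinearMap.toMatrix'_mulVec _ v
  have hP : IsUnit P := Matrix.mulVec_injective_iff_isUnit.1 fun u v huv => e.injective (by rwa [← hPv, ← hPv])
  refine ⟨hP.unit, ?_⟩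
  show Pᵀ * J * P = J'
  refine Matrix.ext fun a b => ?_
  have h1 : polar (Q J) (e (Pi.single a 1)) (e (Pi.single b 1)) = polar (Q J') (Pi.single a 1) (Pi.single b 1) := by
    simp only [polar, ← map_add, he]
  rw [hp J hJ, hp J' hJ', ← hPv, ← hPv, ← dot_conj] at h1
  simpa [Matrix.mulVec_single_one, single_dotProduct] using mul_left_cancel₀ h2 h1

/-- Classification of symmetric invertible matrices in odd characteristic. -/
theorem sym_sim [Finite K] (h2 : (2 : K) ≠ 0) {J : Matrix ι ι K} {M : Matrix κ κ K} (hJ : Jᵀ = J) (hM : Mᵀ = M)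
    (hd : J.det ≠ 0) (hd' : M.det ≠ 0) (hc : Fintype.card κ = Fintype.card ι)
    (h : Odd (Fintype.card ι) ∨ IsSquare (J.det * M.det)) : Sim J M := by
  let e := Fintype.equivFin ι
  let e' : κ ≃ Fin (Fintype.card ι) := (Fintype.equivFin κ).trans (finCongr hc)
  set J₀ := J.submatrix e.symm e.symm with hJ₀
  set M₀ := M.submatrix e'.symm e'.symm with hM₀
  have dJ : J₀.det = J.det := Matrix.det_submatrix_equiv_self _ _
  have dM : M₀.det = M.det := Matrix.det_submatrix_equiv_self _ _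
  have hJ₀T : J₀ᵀ = J₀ := by rw [hJ₀, Matrix.transpose_submatrix, hJ]
  have hM₀T : M₀ᵀ = M₀ := by rw [hM₀, Matrix.transpose_submatrix, hM]
  obtain ⟨c, hc0, hsq⟩ : ∃ c : K, c ≠ 0 ∧ IsSquare (J₀.det * (c • M₀).det) := by
    rcases h with h | h
    · refine ⟨J.det * M.det, mul_ne_zero hd hd', ?_⟩
      rw [dJ, Matrix.det_smul, dM, Fintype.card_fin]
      obtain ⟨k, hk⟩ := h
      rw [hk]
      exact ⟨(J.det * M.det) ^ (k + 1), by ring⟩
    · exact ⟨1, one_ne_zero, by rwa [one_smul, dJ, dM]⟩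
  obtain ⟨P, hP⟩ := exists_congr_sym h2 hJ₀T (J' := c • M₀) (by rw [Matrix.transpose_smul, hM₀T]) (dJ ▸ hd)
    (by rw [Matrix.det_smul, dM]; exact mul_ne_zero (pow_ne_zero _ hc0) hd') hsq
  exact (Sim.of_eq (M := J) e (rfl : J₀ = J.submatrix e.symm e.symm)).symm.trans ⟨e', P, Units.mk0 c hc0, hP⟩

/-- Symmetric non-alternating invertible matrices in characteristic two. -/
theorem nonAlt_sim_one [Finite K] [CharP K 2] {J : Matrix ι ι K} (hJ : Jᵀ = J) (hd : J.det ≠ 0)
    (hA : ¬ IsAltMat J) : Sim J (1 : Matrix (Fin (Fintype.card ι)) (Fin (Fintype.card ι)) K) := by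
  have hB : ∀ u v, Matrix.toBilin' J u v = u ⬝ᵥ J *ᵥ v := fun u v => Matrix.toBilin'_apply' J u v
  have hS : (Matrix.toBilin' J).IsSymm := ⟨fun u v => by
    rw [hB, hB, Matrix.dotProduct_mulVec, ← Matrix.mulVec_transpose, hJ, dotProduct_comm]⟩
  obtain ⟨b, hb⟩ := exists_orthonormal_char_two (Fintype.card ι) (Matrix.toBilin' J) (Module.finrank_pi K) hS
    (Matrix.Nondegenerate.toBilin' (Matrix.nondegenerate_of_det_ne_zero hd))
    (by rw [IsAltMat, not_forall] at hA; simpa [hB] using hA)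
  exact sim_of_basis b fun i j => by rw [← hB, hb, Matrix.one_apply]

theorem nonAlt_sim [Finite K] [CharP K 2] {J : Matrix ι ι K} {M : Matrix κ κ K} (hJ : Jᵀ = J) (hM : Mᵀ = M)
    (hd : J.det ≠ 0) (hd' : M.det ≠ 0) (hA : ¬ IsAltMat J) (hA' : ¬ IsAltMat M)
    (hc : Fintype.card κ = Fintype.card ι) : Sim J M := by
  have h := nonAlt_sim_one hM hd' hA'
  rw [hc] at h
  exact (nonAlt_sim_one hJ hd hA).trans h.symm

/-! ### The standard forms -/

variable (K) (m : ℕ)

/-- The matrix of the odd form. -/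
noncomputable abbrev oddM : Matrix (Unit ⊕ (Fin m ⊕ Fin m)) (Unit ⊕ (Fin m ⊕ Fin m)) K :=
  polMat (AutPOmega.qOdd K m)

/-- The matrix of the plus form. -/
noncomputable abbrev plusM : Matrix (Fin m ⊕ Fin m) (Fin m ⊕ Fin m) K := polMat (AutPOmega.qPlus K m)

/-- The matrix of the minus form. -/
noncomputable abbrev minusM (a b : K) : Matrix ((Fin m ⊕ Fin m) ⊕ Fin 2) ((Fin m ⊕ Fin m) ⊕ Fin 2) K :=
  polMat (AutPOmega.qMinus K m a b)

variable {K m}

theorem nondeg_qOdd (h2 : (2 : K) ≠ 0) : (polarBilin (AutPOmega.qOdd K m)).Nondegenerate :=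
  (Iso.symm ⟨oddCoord m, fun x => (oddCoord_map m x).trans (AutPOmega.qOdd_apply K m x).symm⟩).nondeg
    (nondeg_hyp (nondeg_sqForm h2) m)

theorem nondeg_qPlus : (polarBilin (AutPOmega.qPlus K m)).Nondegenerate :=
  (Iso.symm ⟨plusCoord m, fun x => (plusCoord_map m x).trans (AutPOmega.qPlus_apply K m x).symm⟩).nondeg
    (nondeg_hyp nondeg_zeroForm m)

theorem nondeg_qMinus [Finite K] {a b : K}
    (hab : ∀ z₁ z₂ : K, z₁ ^ 2 + a * z₁ * z₂ + b * z₂ ^ 2 = 0 → z₁ = 0 ∧ z₂ = 0) :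
    (polarBilin (AutPOmega.qMinus K m a b)).Nondegenerate :=
  (Iso.symm ⟨minusCoord m, fun x => (minusCoord_map a b m x).trans (AutPOmega.qMinus_apply K m a b x).symm⟩).nondeg
    (nondeg_hyp (nondeg_binForm hab) m)

theorem disc_plusM [Fintype K] {q : ℕ} (hF : Fintype.card K = q) (hq : Odd q) :
    IsSquare (plusM K m).det ↔ Even (m * (q - 1) / 2) := by
  rw [← disc_plus hF hq (m := m) (Pi.basisFun K (Fin m ⊕ Fin m))]
  congr! 2
  ext i j
  simp [polMat]
  rfl

theorem disc_minusM [Fintype K] {q : ℕ} (hF : Fintype.card K = q) (hq : Odd q) {a b : K}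
    (hab : ∀ z₁ z₂ : K, z₁ ^ 2 + a * z₁ * z₂ + b * z₂ ^ 2 = 0 → z₁ = 0 ∧ z₂ = 0) :
    IsSquare (minusM K m a b).det ↔ ¬ Even ((m + 1) * (q - 1) / 2) := by
  rw [← disc_minus hF hq (k := m) hab (Pi.basisFun K ((Fin m ⊕ Fin m) ⊕ Fin 2))]
  congr! 2
  ext i j
  simp [polMat]
  rfl

theorem isSquare_mul_iff [Finite K] {x y : K} (hx : x ≠ 0) (hy : y ≠ 0) :
    IsSquare (x * y) ↔ (IsSquare x ↔ IsSquare y) := by
  classical
  haveI := Fintype.ofFinite K
  rw [← quadraticChar_one_iff_isSquare (mul_ne_zero hx hy), ← quadraticChar_one_iff_isSquare hx,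
    ← quadraticChar_one_iff_isSquare hy, map_mul]
  rcases quadraticChar_dichotomy hx with h | h <;> rcases quadraticChar_dichotomy hy with h' | h' <;>
    simp [h, h']

theorem J_transpose' (m : ℕ) : (Matrix.J (Fin m) K)ᵀ = -Matrix.J (Fin m) K := Matrix.J_transpose _ _

/-- The three types in odd characteristic and even dimension. -/
theorem even_three [Fintype K] (hodd : Odd (Fintype.card K)) {J : Matrix ι ι K} (hd : J.det ≠ 0)
    (hJ : Jᵀ = J ∨ Jᵀ = -J) (hm : 1 ≤ m) (hn : Fintype.card ι = 2 * m) {a b : K}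
    (hab : ∀ z₁ z₂ : K, z₁ ^ 2 + a * z₁ * z₂ + b * z₂ ^ 2 = 0 → z₁ = 0 ∧ z₂ = 0) :
    Sim J (Matrix.J (Fin m) K) ∨ Sim J (plusM K m) ∨ Sim J (minusM K (m - 1) a b) := by
  have h2 := AutPOmega.two_ne_zero_of_odd hodd
  rcases hJ with hJ | hJ
  · have hP := polMat_det (nondeg_qPlus (K := K) (m := m))
    have hM := polMat_det (nondeg_qMinus (m := m - 1) hab)
    by_cases hsq : IsSquare (J.det * (plusM K m).det)
    · exact Or.inr (Or.inl (sym_sim h2 hJ (polMat_symm _) hd hP (by simp [hn]; omega) (Or.inr hsq)))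
    · refine Or.inr (Or.inr (sym_sim h2 hJ (polMat_symm _) hd hM (by simp [hn]; omega) (Or.inr ?_)))
      rw [isSquare_mul_iff hd hP] at hsq
      rw [isSquare_mul_iff hd hM, disc_minusM rfl hodd hab, show m - 1 + 1 = m by omega, ← disc_plusM rfl hodd]
      tauto
  · obtain ⟨m', hm', h⟩ := alt_sim (skew_isAlt h2 hJ) hd
    obtain rfl : m' = m := by omega
    exact Or.inl h

theorem not_sim_J_sym (h2 : (2 : K) ≠ 0) {M : Matrix κ κ K} (hM : Mᵀ = M) (hd : M.det ≠ 0) :
    ¬ Sim (Matrix.J (Fin m) K) M ∨ IsEmpty κ := by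
  by_cases hκ : IsEmpty κ
  · exact Or.inr hκ
  refine Or.inl fun h => ?_
  rw [not_isEmpty_iff] at hκ
  obtain ⟨i⟩ := hκ
  have h1 := h.transpose (ε := (-1 : K)) (by rw [J_transpose', neg_one_smul])
  rw [hM, neg_one_smul] at h1
  refine hd (Matrix.det_eq_zero_of_row_eq_zero i fun j => ?_)
  have h3 := congrFun (congrFun h1 i) j
  rw [Matrix.neg_apply] at h3
  exact (mul_eq_zero.1 (show (2 : K) * M i j = 0 by linear_combination h3)).resolve_left h2

theorem not_sim_plus_minus [Fintype K] (hodd : Odd (Fintype.card K)) (hm : 1 ≤ m) {a b : K}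
    (hab : ∀ z₁ z₂ : K, z₁ ^ 2 + a * z₁ * z₂ + b * z₂ ^ 2 = 0 → z₁ = 0 ∧ z₂ = 0) :
    ¬ Sim (plusM K m) (minusM K (m - 1) a b) := fun h => by
  have hsq := h.isSquare_det (by simp)
  rw [isSquare_mul_iff (polMat_det nondeg_qPlus) (polMat_det (nondeg_qMinus hab)), disc_plusM rfl hodd,
    disc_minusM rfl hodd hab, show m - 1 + 1 = m by omega] at hsq
  tauto

end Cfsg.Agent.GraphForms
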