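import Cfsg.Agent.GraphForms.Models
import Cfsg.Agent.AutPSL.Classes

/-!
Determinants of similitudes, the orders of the similitude groups modulo scalars, and indices in cyclic groups.
-/

set_option autoImplicit false

namespace Cfsg.Agent.GraphForms

open Matrix Module QuadraticMap
open scoped MatrixGroups

variable {K : Type*} [Field K] {ι : Type} [Fintype ι] [DecidableEq ι] {m : ℕ}

theorem symp_det {k : GL (Fin m ⊕ Fin m) K} {c : K}
    (h : (mval k)ᵀ * Matrix.J (Fin m) K * mval k = c • Matrix.J (Fin m) K) : (mval k).det = c ^ m := by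
  by_cases hm : m = 0
  · subst hm
    simp [Matrix.det_isEmpty]
  have hc : c ≠ 0 := fun h0 => by
    have := congrArg Matrix.det h
    rw [h0, zero_smul, Matrix.det_mul, Matrix.det_mul, Matrix.det_transpose] at this
    haveI hne : Nonempty (Fin m ⊕ Fin m) := ⟨Sum.inl ⟨0, by omega⟩⟩
    rw [Matrix.det_zero] at this
    exact mul_ne_zero (mul_ne_zero (Matrix.GeneralLinearGroup.det_ne_zero k) (J_det_ne_zero m))
      (Matrix.GeneralLinearGroup.det_ne_zero k) this
  set D : Matrix (Fin m ⊕ Fin m) (Fin m ⊕ Fin m) K := Matrix.fromBlocks (c⁻¹ • 1) 0 0 1 with hD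
  have hDJ : Dᵀ * Matrix.J (Fin m) K * D = c⁻¹ • Matrix.J (Fin m) K := by
    simp [hD, Matrix.J, Matrix.fromBlocks_transpose, Matrix.fromBlocks_multiply, Matrix.fromBlocks_smul]
  have hmem : mval k * D ∈ Matrix.symplecticGroup (Fin m) K := by
    rw [SymplecticGroup.mem_iff', Matrix.transpose_mul,
      show Dᵀ * (mval k)ᵀ * Matrix.J (Fin m) K * (mval k * D) = Dᵀ * ((mval k)ᵀ * Matrix.J (Fin m) K * mval k) * D by
        simp only [Matrix.mul_assoc], h, Matrix.mul_smul, Matrix.smul_mul, hDJ, smul_smul, mul_inv_cancel₀ hc,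
      one_smul]
  have hdet := SymplecticGroup.det_eq_one hmem
  rw [Matrix.det_mul, hD, Matrix.det_fromBlocks_zero₂₁, Matrix.det_smul, Matrix.det_one, mul_one, mul_one,
    Fintype.card_fin, inv_pow] at hdet
  exact (mul_inv_eq_one₀ (pow_ne_zero m hc)).1 hdet

theorem symp_exists (c : Kˣ) :
    ∃ k : GL (Fin m ⊕ Fin m) K, (mval k)ᵀ * Matrix.J (Fin m) K * mval k = (c : K) • Matrix.J (Fin m) K := by
  set D : Matrix (Fin m ⊕ Fin m) (Fin m ⊕ Fin m) K := Matrix.fromBlocks ((c : K) • 1) 0 0 1 with hD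
  refine ⟨Matrix.GeneralLinearGroup.mkOfDetNeZero D ?_, ?_⟩
  · rw [hD, Matrix.det_fromBlocks_zero₂₁, Matrix.det_smul, Matrix.det_one, mul_one, mul_one]
    exact pow_ne_zero _ c.ne_zero
  · show Dᵀ * Matrix.J (Fin m) K * D = _
    simp [hD, Matrix.J, Matrix.fromBlocks_transpose, Matrix.fromBlocks_multiply, Matrix.fromBlocks_smul]

/-- Multiplier and determinant of an orthogonal similitude in even dimension. -/
theorem orth_exists [Finite K] (h2 : (2 : K) ≠ 0) {J : Matrix ι ι K} (hJ : Jᵀ = J) (hd : J.det ≠ 0)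
    (hn : Even (Fintype.card ι)) (hpos : 0 < Fintype.card ι) {c δ : K} (hδ : δ ^ 2 = c ^ Fintype.card ι)
    (hc : c ≠ 0) : ∃ k : GL ι K, (mval k)ᵀ * J * mval k = c • J ∧ (mval k).det = δ := by
  obtain ⟨n, ⟨e⟩⟩ : ∃ n, Nonempty (Fin n ≃ ι) := ⟨_, ⟨(Fintype.equivFin ι).symm⟩⟩
  have hcard : Fintype.card ι = n := (Fintype.card_congr e).symm.trans (Fintype.card_fin n)
  rw [hcard] at hδ hn hpos
  refine (Sim.of_eq (M := J) e.symm (J := J.submatrix e e) rfl).symm.det_pair.2 ?_
  set A := J.submatrix e e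
  have hA : Aᵀ = A := by rw [Matrix.transpose_submatrix, hJ]
  have hAd : A.det ≠ 0 := by rw [Matrix.det_submatrix_equiv_self]; exact hd
  obtain ⟨k, hk⟩ := hn
  obtain ⟨P, hP⟩ := exists_congr_sym h2 hA (J' := c • A) (by rw [Matrix.transpose_smul, hA]) hAd
    (by rw [Matrix.det_smul]; exact mul_ne_zero (pow_ne_zero _ hc) hAd)
    ⟨c ^ k * A.det, by rw [Matrix.det_smul, Fintype.card_fin, show c ^ n = c ^ k * c ^ k by rw [hk, pow_add]]; ring⟩
  have h1 := det_sq hAd hP
  rw [Fintype.card_fin, ← hδ] at h1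
  rcases sq_eq_sq_iff_eq_or_eq_neg.1 h1 with h | h
  · exact ⟨P, hP, h⟩
  haveI : NeZero n := ⟨by omega⟩
  let d : Fin n → K := Function.update (fun _ => 1) 0 A.det
  obtain ⟨S, hS⟩ := exists_congr_sym h2 hA (J' := Matrix.diagonal d) (Matrix.diagonal_transpose d) hAd
    (by rw [Matrix.det_diagonal, Finset.prod_update_of_mem (Finset.mem_univ _)]; simpa using hAd)
    ⟨A.det, by rw [Matrix.det_diagonal, Finset.prod_update_of_mem (Finset.mem_univ _)]; simp⟩
  let r : Fin n → K := Function.update (fun _ => 1) 0 (-1)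
  have hr : (Matrix.diagonal r).det = -1 := by
    rw [Matrix.det_diagonal, Finset.prod_update_of_mem (Finset.mem_univ _)]; simp
  refine ⟨P * transfer (Equiv.refl _) S (Matrix.GeneralLinearGroup.mkOfDetNeZero (Matrix.diagonal r)
    (by rw [hr]; simp)), ?_, ?_⟩
  · have hT := (transfer_mem (k := Matrix.GeneralLinearGroup.mkOfDetNeZero (Matrix.diagonal r) (by rw [hr]; simp))
      (d := (1 : K)) (e := Equiv.refl (Fin n)) (M := Matrix.diagonal d) (c := 1) (J := A) (P := S)
      (by rw [hS]; simp)).2 (by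
        show (Matrix.diagonal r)ᵀ * Matrix.diagonal d * Matrix.diagonal r = _
        rw [Matrix.diagonal_transpose, Matrix.diagonal_mul_diagonal, Matrix.diagonal_mul_diagonal, one_smul]
        congr 1
        funext i
        by_cases hi : i = 0
        · subst hi; simp [r]
        · simp [r, hi])
    rw [one_smul] at hT
    set T := transfer (Equiv.refl _) S _
    calc (mval (P * T))ᵀ * A * mval (P * T) = (mval T)ᵀ * ((mval P)ᵀ * A * mval P) * mval T := by
          simp only [mval, Units.val_mul, Matrix.transpose_mul, Matrix.mul_assoc]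
      _ = c • A := by rw [hP, Matrix.mul_smul, Matrix.smul_mul, hT]
  · show (mval P * mval (transfer _ S _)).det = δ
    rw [Matrix.det_mul, transfer_det, h]
    show -δ * (Matrix.diagonal r).det = δ
    rw [hr]
    ring

theorem odd_mult_square {J : Matrix ι ι K} (hd : J.det ≠ 0) (hn : Odd (Fintype.card ι)) {k : GL ι K} {c : Kˣ}
    (h : (mval k)ᵀ * J * mval k = (c : K) • J) : IsSquare (c : K) := by
  obtain ⟨r, hr⟩ := hn
  have h1 := det_sq hd h
  rw [hr] at h1
  refine ⟨(mval k).det / (c : K) ^ r, ?_⟩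
  have := c.ne_zero
  field_simp
  linear_combination -h1

/-! ### Orders -/

theorem card_projQuot_simG [Finite K] [Nonempty ι] {J : Matrix ι ι K} (hJ : J ≠ 0)
    (hs : ∀ c : Kˣ, ∃ k : GL ι K, (mval k)ᵀ * J * mval k = (c : K) • J) :
    Nat.card (Cfsg.projQuot (simG J)) = Nat.card {k : GL ι K // (mval k)ᵀ * J * mval k = J} := by
  classical
  have huniq : ∀ c d : Kˣ, (c : K) • J = (d : K) • J → c = d := fun c d h =>
    Units.ext (smul_left_injective K hJ h)
  choose μ hμ using fun k : simG J => mem_simG.1 k.2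
  let μh : simG J →* Kˣ := MonoidHom.mk' μ fun a b => huniq _ _ (by
    rw [← hμ (a * b)]
    show (mval (a.1 * b.1))ᵀ * J * mval (a.1 * b.1) = _
    rw [show (mval (a.1 * b.1))ᵀ * J * mval (a.1 * b.1) = (mval b.1)ᵀ * ((mval a.1)ᵀ * J * mval a.1) * mval b.1 by
      simp only [mval, Units.val_mul, Matrix.transpose_mul, Matrix.mul_assoc], hμ a, Matrix.mul_smul, Matrix.smul_mul,
      hμ b, smul_smul, Units.val_mul])
  have hsurj : Function.Surjective μh := fun c => by
    obtain ⟨k, hk⟩ := hs c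
    exact ⟨⟨k, c, hk⟩, huniq _ _ ((hμ ⟨k, c, hk⟩).symm.trans hk)⟩
  have hker : Nat.card μh.ker = Nat.card {k : GL ι K // (mval k)ᵀ * J * mval k = J} :=
    Nat.card_congr {
      toFun := fun k => ⟨k.1.1, by
        rw [hμ k.1, show μ k.1 = 1 from k.2, Units.val_one, one_smul]⟩
      invFun := fun k => ⟨⟨k.1, mem_simG.2 ⟨1, k.2.trans (one_smul K J).symm⟩⟩, huniq _ _ ((hμ _).symm.trans (k.2.trans (one_smul K J).symm))⟩
      left_inv := fun _ => rfl
      right_inv := fun _ => rfl }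
  have hsc : Nat.card ((Cfsg.Geo.scalars ι K).subgroupOf (simG J)) = Nat.card Kˣ := by
    refine (Nat.card_congr (Equiv.ofBijective
      (fun c => (⟨⟨Matrix.GeneralLinearGroup.scalar ι c, scalar_mem_simG J c⟩, scalar_mem c⟩ :
        (Cfsg.Geo.scalars ι K).subgroupOf (simG J))) ⟨fun c d h => ?_, fun x => ?_⟩)).symm
    · have h1 : mval (Matrix.GeneralLinearGroup.scalar ι c) = mval (Matrix.GeneralLinearGroup.scalar ι d) :=
        congrArg (fun x => mval x.1.1) h
      rw [mval_scalar, mval_scalar] at h1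
      exact Units.ext (smul_left_injective K one_ne_zero h1)
    · obtain ⟨c, hc⟩ := mem_scalars (Subgroup.mem_subgroupOf.1 x.2)
      exact ⟨c, Subtype.ext (Subtype.ext hc.symm)⟩
  have h1 := Subgroup.card_eq_card_quotient_mul_card_subgroup ((Cfsg.Geo.scalars ι K).subgroupOf (simG J))
  have h2 := Subgroup.card_eq_card_quotient_mul_card_subgroup μh.ker
  rw [Nat.card_congr (QuotientGroup.quotientKerEquivOfSurjective μh hsurj).toEquiv, hker] at h2
  rw [hsc, h2, mul_comm (Nat.card Kˣ)] at h1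
  exact (Nat.eq_of_mul_eq_mul_right Nat.card_pos h1).symm

/-- The symplectic group up to scalars is not orthogonal. -/
theorem pgsp_ne_orth [Fintype K] (hodd : Odd (Fintype.card K)) (hm : 2 ≤ m) {a b : K}
    (hab : ∀ z₁ z₂ : K, z₁ ^ 2 + a * z₁ * z₂ + b * z₂ ^ 2 = 0 → z₁ = 0 ∧ z₂ = 0) :
    Nat.card (Cfsg.projQuot (simG (Matrix.J (Fin m) K))) ≠ Nat.card (Cfsg.projQuot (simG (plusM K m))) ∧
    Nat.card (Cfsg.projQuot (simG (Matrix.J (Fin m) K))) ≠
      Nat.card (Cfsg.projQuot (simG (minusM K (m - 1) a b))) := by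
  classical
  have h2 := AutPOmega.two_ne_zero_of_odd hodd
  set q := Fintype.card K with hq
  obtain ⟨k, rfl⟩ : ∃ k, m = k + 1 := ⟨m - 1, by omega⟩
  haveI : Nonempty (Fin (k + 1) ⊕ Fin (k + 1)) := ⟨Sum.inl 0⟩
  haveI : Nonempty ((Fin k ⊕ Fin k) ⊕ Fin 2) := ⟨Sum.inr 0⟩
  have hne : ∀ {κ : Type} [Fintype κ] [DecidableEq κ] [Nonempty κ] {M : Matrix κ κ K}, M.det ≠ 0 → M ≠ 0 :=
    fun {κ} _ _ _ {M} h h0 => h (by rw [h0, Matrix.det_zero])
  -- symplectic
  have hS : Nat.card (Cfsg.projQuot (simG (Matrix.J (Fin (k + 1)) K))) =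
      q ^ ((k + 1) ^ 2) * ∏ i ∈ Finset.range (k + 1), (q ^ (2 * (i + 1)) - 1) := by
    rw [card_projQuot_simG (hne (J_det_ne_zero _)) symp_exists, hq,
      ← Classical.Alt.card_isoGroup (Classical.sympB_isAlt (m := k + 1) (F := K)) Classical.sympB_nondeg (k + 1)
        (by simp; omega), ← Nat.card_congr (Classical.spEquiv (k + 1) K).toEquiv]
    exact Nat.card_congr {
      toFun := fun A => ⟨mval A.1, SymplecticGroup.mem_iff'.2 A.2⟩
      invFun := fun A => ⟨spUnits _ K A, SymplecticGroup.mem_iff'.1 A.2⟩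
      left_inv := fun A => Subtype.ext (Units.ext rfl)
      right_inv := fun A => rfl }
  -- orthogonal
  have hO : ∀ {κ : Type} [Fintype κ] [DecidableEq κ] [Nonempty κ] (Q : QuadraticForm K (κ → K)),
      (polarBilin Q).Nondegenerate → Even (Fintype.card κ) →
      Nat.card (Cfsg.projQuot (simG (polMat Q))) = Nat.card (Cfsg.isometryGroup K ⇑Q) := by
    intro κ _ _ _ Q hQ hev
    rw [card_projQuot_simG (hne (polMat_det hQ)) fun c => by
      obtain ⟨r, hr⟩ := hev
      obtain ⟨g, hg, -⟩ := orth_exists h2 (polMat_symm Q) (polMat_det hQ) ⟨r, hr⟩ Fintype.card_pos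
        (c := (c : K)) (δ := (c : K) ^ r) (by rw [hr, ← pow_mul, mul_two]) c.ne_zero
      exact ⟨g, hg⟩]
    refine Nat.card_congr (Equiv.subtypeEquivRight fun g => ?_)
    rw [Classical.Quad.mem_isometryGroup_iff]
    constructor
    · intro h v
      have h' := sim_iff.2 (h.trans (one_smul K _).symm) v v
      rw [dot_polMat, dot_polMat, Classical.Quad.polar_self', Classical.Quad.polar_self', one_mul] at h'
      exact mul_left_cancel₀ h2 h'
    · intro h
      refine (sim_iff.1 fun u v => ?_).trans (one_smul K _)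
      rw [dot_polMat, dot_polMat, polar, polar, ← Matrix.mulVec_add, h, h, h, one_mul]
  have hP : Nat.card (Cfsg.projQuot (simG (plusM K (k + 1)))) =
      2 * q ^ ((k + 1) * k) * (q ^ (k + 1) - 1) * ∏ i ∈ Finset.range k, (q ^ (2 * (i + 1)) - 1) := by
    rw [hO _ nondeg_qPlus (by simp), ← Classical.Quad.card_oG_plus rfl k]
    exact Classical.Quad.card_isometryGroup_eq (Classical.Quad.plusCoord (k + 1))
      fun x => Classical.Quad.plusCoord_map _ x
  have hM : Nat.card (Cfsg.projQuot (simG (minusM K k a b))) =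
      2 * q ^ ((k + 1) * k) * (q ^ (k + 1) + 1) * ∏ i ∈ Finset.range k, (q ^ (2 * (i + 1)) - 1) := by
    rw [hO _ (nondeg_qMinus hab) (by simp [Nat.even_add]), ← Classical.Quad.card_oG_minus hab rfl k]
    exact Classical.Quad.card_isometryGroup_eq (Classical.Quad.minusCoord k)
      fun x => Classical.Quad.minusCoord_map a b _ x
  have hq1 : 1 < q := Fintype.one_lt_card
  have hprod : 0 < ∏ i ∈ Finset.range k, (q ^ (2 * (i + 1)) - 1) := Finset.prod_pos fun i _ => by
    have : q ≤ q ^ (2 * (i + 1)) := Nat.le_self_pow (by omega) q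
    omega
  have hpow : q ^ ((k + 1) ^ 2) = q ^ ((k + 1) * k) * q ^ (k + 1) := by rw [← pow_add]; congr 1; ring
  have hle : q ≤ q ^ (k + 1) := Nat.le_self_pow (by omega) q
  have hbig : q ^ (k + 1) + 1 < q ^ (2 * (k + 1)) - 1 := by
    have : 3 * q ^ (k + 1) ≤ q ^ (k + 1) * q ^ (k + 1) := Nat.mul_le_mul_right _ (by
      obtain ⟨j, hj⟩ := hodd
      omega)
    rw [show q ^ (2 * (k + 1)) = q ^ (k + 1) * q ^ (k + 1) by rw [two_mul, pow_add]]
    omega
  rw [Nat.add_sub_cancel, hS, hP, hM, Finset.prod_range_succ, hpow]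
  set Pr := ∏ i ∈ Finset.range k, (q ^ (2 * (i + 1)) - 1)
  set X := q ^ ((k + 1) * k)
  have hX : 0 < X := pow_pos (by omega) _
  constructor <;> intro h
  · have h' : q ^ (k + 1) * (q ^ (2 * (k + 1)) - 1) = 2 * (q ^ (k + 1) - 1) :=
      Nat.eq_of_mul_eq_mul_left (Nat.mul_pos hX hprod) (by linear_combination h)
    nlinarith [h', hbig, hle, hq1, Nat.sub_add_cancel (show 1 ≤ q ^ (k + 1) by omega)]
  · have h' : q ^ (k + 1) * (q ^ (2 * (k + 1)) - 1) = 2 * (q ^ (k + 1) + 1) :=
      Nat.eq_of_mul_eq_mul_left (Nat.mul_pos hX hprod) (by linear_combination h)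
    nlinarith [h', hbig, hle, hq1]

/-! ### Indices in cyclic groups -/

theorem index_range_pow {A : Type*} [CommGroup A] [Finite A] [IsCyclic A] {N m n : ℕ} (hN : Nat.card A = N)
    (H : Subgroup A) (hmn : m ∣ n) (hle : H ≤ (powMonoidHom m : A →* A).range)
    (hge : (powMonoidHom m : A →* A).range ≤ (powMonoidHom n : A →* A).range ⊔ H) :
    ((powMonoidHom n : A →* A).range ⊔ H).index = Nat.gcd m N := by
  have h : (powMonoidHom n : A →* A).range ⊔ H = (powMonoidHom m : A →* A).range := by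
    refine le_antisymm (sup_le ?_ hle) hge
    rintro _ ⟨x, rfl⟩
    obtain ⟨t, rfl⟩ := hmn
    exact ⟨x ^ t, by simp [powMonoidHom_apply, ← pow_mul, mul_comm]⟩
  rw [h, IsCyclic.index_powMonoidHom_range, hN, Nat.gcd_comm]

/-- The subgroup of m-th powers and an involution. -/
theorem index_pow_sup_two {A : Type*} [CommGroup A] [Finite A] [IsCyclic A] {N : ℕ} (hN : Nat.card A = N) (m : ℕ)
    {z : A} (hz : orderOf z = 2) :
    ((powMonoidHom m : A →* A).range ⊔ Subgroup.zpowers z).index = Nat.gcd (2 * m) N / 2 := by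
  have h2 : 2 ∣ N := by rw [← hN, ← hz]; exact orderOf_dvd_natCard z
  obtain ⟨M, rfl⟩ := h2
  have hM : (Subgroup.zpowers z).index = M := by
    have h1 := (Subgroup.zpowers z).index_mul_card
    rw [Nat.card_zpowers, hz, hN] at h1
    omega
  rw [AutPSL.cyclic_index_sup, IsCyclic.index_powMonoidHom_range, hM, hN, Nat.gcd_mul_left, Nat.mul_div_cancel_left _
    two_pos, Nat.gcd_comm (2 * M) m, Nat.gcd_assoc, Nat.gcd_eq_right (dvd_mul_left M 2)]

end Cfsg.Agent.GraphForms
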