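import Mathlib
import Cfsg.Prelude.Def_LieClassical
import Cfsg.Prelude.Def_LieTypeDatum

/-!
Matrices up to congruence and scaling, and their groups of similitudes modulo scalars.
-/

set_option autoImplicit false

namespace Cfsg.Agent.GraphForms

open Matrix
open scoped MatrixGroups

variable {K : Type*} [Field K] {ι κ μ : Type} [Fintype ι] [DecidableEq ι] [Fintype κ] [DecidableEq κ] [Fintype μ]
  [DecidableEq μ]

/-- An invertible matrix as a matrix. -/
abbrev mval (k : GL ι K) : Matrix ι ι K := k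

theorem mval_scalar (c : Kˣ) :
    mval (Matrix.GeneralLinearGroup.scalar ι c) = (c : K) • (1 : Matrix ι ι K) := by
  show Matrix.scalar ι (c : K) = _
  rw [Matrix.scalar_apply, Matrix.smul_one_eq_diagonal]

theorem scalar_mem (c : Kˣ) : Matrix.GeneralLinearGroup.scalar ι c ∈ Cfsg.Geo.scalars ι K :=
  (Cfsg.Geo.mem_scalars_iff _).2 ⟨c, mval_scalar c⟩

theorem mem_scalars {k : GL ι K} (h : k ∈ Cfsg.Geo.scalars ι K) :
    ∃ c : Kˣ, k = Matrix.GeneralLinearGroup.scalar ι c := by
  obtain ⟨c, hc⟩ := (Cfsg.Geo.mem_scalars_iff _).1 h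
  exact ⟨c, Units.ext (hc.trans (mval_scalar c).symm)⟩

/-- The similitudes of the form with matrix J. -/
def simG (J : Matrix ι ι K) : Subgroup (GL ι K) where
  carrier := {k | ∃ c : Kˣ, (mval k)ᵀ * J * mval k = (c : K) • J}
  mul_mem' := by
    rintro a b ⟨c, hc⟩ ⟨d, hd⟩
    refine ⟨c * d, ?_⟩
    calc (mval (a * b))ᵀ * J * mval (a * b)
        = (mval b)ᵀ * ((mval a)ᵀ * J * mval a) * mval b := by
          simp only [mval, Units.val_mul, Matrix.transpose_mul, Matrix.mul_assoc]
      _ = _ := by rw [hc, Matrix.mul_smul, Matrix.smul_mul, hd, smul_smul, Units.val_mul]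
  one_mem' := ⟨1, by simp [mval]⟩
  inv_mem' := by
    rintro a ⟨c, hc⟩
    refine ⟨c⁻¹, ?_⟩
    have h1 : (mval a⁻¹)ᵀ * ((mval a)ᵀ * J * mval a) * mval a⁻¹ = J := by
      rw [Matrix.mul_assoc, Matrix.mul_assoc, Units.mul_inv, Matrix.mul_one, ← Matrix.mul_assoc,
        ← Matrix.transpose_mul, Units.mul_inv, Matrix.transpose_one, Matrix.one_mul]
    rw [hc, Matrix.mul_smul, Matrix.smul_mul] at h1
    rw [Units.val_inv_eq_inv_val]
    conv_rhs => rw [← h1]
    rw [smul_smul, inv_mul_cancel₀ c.ne_zero, one_smul]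

theorem mem_simG {J : Matrix ι ι K} {k : GL ι K} :
    k ∈ simG J ↔ ∃ c : Kˣ, (mval k)ᵀ * J * mval k = (c : K) • J := Iff.rfl

theorem scalar_mem_simG (J : Matrix ι ι K) (c : Kˣ) : Matrix.GeneralLinearGroup.scalar ι c ∈ simG J :=
  ⟨c * c, by rw [mval_scalar, Matrix.transpose_smul, Matrix.transpose_one, Matrix.smul_mul, Matrix.one_mul,
    Matrix.mul_smul, Matrix.mul_one, smul_smul, Units.val_mul]⟩

/-- The determinant relation of a similitude. -/
theorem det_sq {J : Matrix ι ι K} (hJ : J.det ≠ 0) {k : Matrix ι ι K} {c : K} (h : kᵀ * J * k = c • J) :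
    k.det ^ 2 = c ^ Fintype.card ι := by
  have h1 := congrArg Matrix.det h
  rw [Matrix.det_mul, Matrix.det_mul, Matrix.det_transpose, Matrix.det_smul] at h1
  refine mul_right_cancel₀ hJ ?_
  rw [← h1]
  ring

/-- Reindexing of invertible matrices. -/
noncomputable def reGL (e : κ ≃ ι) : GL κ K ≃* GL ι K :=
  Units.mapEquiv (Matrix.reindexAlgEquiv K K e).toMulEquiv

theorem mval_reGL (e : κ ≃ ι) (k : GL κ K) : mval (reGL e k) = (mval k).submatrix e.symm e.symm := rfl

theorem reGL_scalar (e : κ ≃ ι) (c : Kˣ) :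
    reGL e (Matrix.GeneralLinearGroup.scalar κ c) = Matrix.GeneralLinearGroup.scalar ι c := by
  refine Units.ext ?_
  show mval (reGL e _) = mval _
  rw [mval_reGL, mval_scalar, mval_scalar]
  ext i j
  simp [Matrix.one_apply]

theorem sub_smul (d : K) (M : Matrix κ κ K) (f : ι → κ) :
    (d • M).submatrix f f = d • M.submatrix f f := rfl

/-- Congruence up to a scalar, across index types. -/
def Sim (J : Matrix ι ι K) (M : Matrix κ κ K) : Prop :=
  ∃ (e : κ ≃ ι) (P : GL ι K) (c : Kˣ), (mval P)ᵀ * J * mval P = (c : K) • M.submatrix e.symm e.symm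

theorem Sim.refl (J : Matrix ι ι K) : Sim J J :=
  ⟨Equiv.refl _, 1, 1, by simp [mval]⟩

theorem Sim.symm {J : Matrix ι ι K} {M : Matrix κ κ K} (h : Sim J M) : Sim M J := by
  obtain ⟨e, P, c, h⟩ := h
  refine ⟨e.symm, reGL e.symm P⁻¹, c⁻¹, ?_⟩
  have h1 : M = (c⁻¹ : K) • ((mval P)ᵀ * J * mval P).submatrix e e := by
    rw [h, sub_smul]
    show M = (c⁻¹ : K) • ((c : K) • (M.submatrix e.symm e.symm).submatrix e e)
    rw [smul_smul, inv_mul_cancel₀ c.ne_zero, one_smul, Matrix.submatrix_submatrix]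
    simp
  rw [mval_reGL, Equiv.symm_symm]
  conv_lhs => rw [h1]
  rw [Matrix.transpose_submatrix, Matrix.mul_smul, Matrix.smul_mul, Units.val_inv_eq_inv_val]
  congr 1
  rw [Matrix.submatrix_mul_equiv, Matrix.submatrix_mul_equiv]
  congr 1
  rw [Matrix.mul_assoc, Matrix.mul_assoc, Units.mul_inv, Matrix.mul_one, ← Matrix.mul_assoc,
    ← Matrix.transpose_mul, Units.mul_inv, Matrix.transpose_one, Matrix.one_mul]

theorem Sim.trans {J : Matrix ι ι K} {M : Matrix κ κ K} {N : Matrix μ μ K} (h : Sim J M) (h' : Sim M N) :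
    Sim J N := by
  obtain ⟨e, P, c, h⟩ := h
  obtain ⟨e', P', c', h'⟩ := h'
  refine ⟨e'.trans e, P * reGL e P', c * c', ?_⟩
  calc (mval (P * reGL e P'))ᵀ * J * mval (P * reGL e P')
      = (mval (reGL e P'))ᵀ * ((mval P)ᵀ * J * mval P) * mval (reGL e P') := by
        simp only [mval, Units.val_mul, Matrix.transpose_mul, Matrix.mul_assoc]
    _ = (c : K) • (((mval P')ᵀ * M * mval P').submatrix e.symm e.symm) := by
        rw [h, Matrix.mul_smul, Matrix.smul_mul, mval_reGL, Matrix.transpose_submatrix, Matrix.submatrix_mul_equiv,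
          Matrix.submatrix_mul_equiv]
    _ = _ := by
        rw [h', sub_smul]
        show (c : K) • ((c' : K) • (N.submatrix e'.symm e'.symm).submatrix e.symm e.symm) = _
        rw [smul_smul, Units.val_mul, Matrix.submatrix_submatrix]
        rfl

theorem Sim.of_eq {J : Matrix ι ι K} {M : Matrix κ κ K} (e : κ ≃ ι) (h : J = M.submatrix e.symm e.symm) :
    Sim J M := ⟨e, 1, 1, by simp [mval, h]⟩

theorem Sim.card_eq {J : Matrix ι ι K} {M : Matrix κ κ K} (h : Sim J M) : Fintype.card κ = Fintype.card ι :=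
  Fintype.card_congr h.choose

theorem Sim.det_ne_zero {J : Matrix ι ι K} {M : Matrix κ κ K} (h : Sim J M) (hJ : J.det ≠ 0) : M.det ≠ 0 := by
  obtain ⟨e, P, c, h⟩ := h
  intro h0
  have h1 := congrArg Matrix.det h
  rw [Matrix.det_mul, Matrix.det_mul, Matrix.det_transpose, Matrix.det_smul, Matrix.det_submatrix_equiv_self, h0,
    mul_zero] at h1
  have hP := Matrix.GeneralLinearGroup.det_ne_zero P
  exact mul_ne_zero (mul_ne_zero hP hJ) hP h1

/-- Even dimension: the discriminant is invariant. -/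
theorem Sim.isSquare_det {J : Matrix ι ι K} {M : Matrix κ κ K} (h : Sim J M) (hn : Even (Fintype.card ι)) :
    IsSquare (J.det * M.det) := by
  obtain ⟨e, P, c, h⟩ := h
  obtain ⟨k, hk⟩ := hn
  have h1 := congrArg Matrix.det h
  rw [Matrix.det_mul, Matrix.det_mul, Matrix.det_transpose, Matrix.det_smul, Matrix.det_submatrix_equiv_self,
    hk] at h1
  have hP := Matrix.GeneralLinearGroup.det_ne_zero P
  refine ⟨(c : K) ^ k * M.det / (mval P).det, ?_⟩
  field_simp
  linear_combination M.det * h1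

theorem Sim.transpose {J : Matrix ι ι K} {M : Matrix κ κ K} (h : Sim J M) {ε : K} (hJ : Jᵀ = ε • J) :
    Mᵀ = ε • M := by
  obtain ⟨e, P, c, h⟩ := h.symm.symm
  have h1 := congrArg Matrix.transpose h
  rw [Matrix.transpose_mul, Matrix.transpose_mul, Matrix.transpose_transpose, hJ, Matrix.smul_mul, Matrix.mul_smul,
    ← Matrix.mul_assoc, h, Matrix.transpose_smul, smul_comm] at h1
  have h2 := congrArg (fun X => X.submatrix e e) (smul_right_injective _ c.ne_zero h1)
  simpa [sub_smul, Matrix.submatrix_submatrix, Matrix.transpose_submatrix] using h2.symm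

/-- An alternating matrix. -/
def IsAltMat (J : Matrix ι ι K) : Prop := ∀ v, v ⬝ᵥ J *ᵥ v = 0

theorem dot_conj (J P : Matrix ι ι K) (v w : ι → K) : v ⬝ᵥ (Pᵀ * J * P) *ᵥ w = (P *ᵥ v) ⬝ᵥ J *ᵥ (P *ᵥ w) := by
  rw [← Matrix.mulVec_mulVec, ← Matrix.mulVec_mulVec, Matrix.dotProduct_mulVec v Pᵀ, Matrix.vecMul_transpose]

theorem Sim.isAlt {J : Matrix ι ι K} {M : Matrix κ κ K} (h : Sim J M) (hJ : IsAltMat J) : IsAltMat M := by
  obtain ⟨e, P, c, h⟩ := h
  intro v
  have h1 := dot_conj J (mval P) (v ∘ e.symm) (v ∘ e.symm)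
  rw [h, hJ, Matrix.smul_mulVec, dotProduct_smul, smul_eq_mul, mul_eq_zero] at h1
  have h2 := h1.resolve_left c.ne_zero
  rw [Matrix.submatrix_mulVec_equiv] at h2
  simpa [Function.comp_assoc, dotProduct_comp_equiv_symm] using h2

theorem sim_iff {J : Matrix ι ι K} {h : Matrix ι ι K} {c : K} :
    (∀ u v, (h *ᵥ u) ⬝ᵥ J *ᵥ (h *ᵥ v) = c * (u ⬝ᵥ J *ᵥ v)) ↔ hᵀ * J * h = c • J := by
  constructor
  · intro H
    refine Matrix.ext fun a b => ?_
    have := H (Pi.single a 1) (Pi.single b 1)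
    rw [← dot_conj] at this
    simpa [Matrix.mulVec_single_one, single_dotProduct] using this
  · intro H u v
    rw [← dot_conj, H, Matrix.smul_mulVec, dotProduct_smul, smul_eq_mul]

/-- A congruence from a basis with a given matrix of values. -/
theorem sim_of_basis {J : Matrix ι ι K} {M : Matrix κ κ K} (b : Module.Basis κ K (ι → K))
    (h : ∀ i j, b i ⬝ᵥ J *ᵥ b j = M i j) : Sim J M := by
  classical
  let e : κ ≃ ι := b.indexEquiv (Pi.basisFun K ι)
  let b' := b.reindex e
  let P : Matrix ι ι K := (Pi.basisFun K ι).toMatrix b'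
  have hP : IsUnit P := by
    refine (Matrix.isUnit_iff_isUnit_det P).2 ?_
    haveI := (Pi.basisFun K ι).invertibleToMatrix b'
    exact Matrix.isUnit_det_of_invertible P
  have hcol : ∀ l, P *ᵥ Pi.single l 1 = b' l := fun l => by
    rw [Matrix.mulVec_single_one]
    funext i
    simp [P, Module.Basis.toMatrix_apply]
  refine ⟨e, hP.unit, 1, Matrix.ext fun a c => ?_⟩
  have h1 := dot_conj J P (Pi.single a 1) (Pi.single c 1)
  rw [hcol, hcol, Module.Basis.reindex_apply, Module.Basis.reindex_apply, h] at h1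
  simpa [Matrix.mulVec_single_one, single_dotProduct, mval] using h1

/-! ### Transfer of similitude groups -/

/-- The conjugating isomorphism of a congruence. -/
noncomputable def transfer (e : κ ≃ ι) (P : GL ι K) : GL κ K ≃* GL ι K := (reGL e).trans (MulAut.conj P)

theorem transfer_scalar (e : κ ≃ ι) (P : GL ι K) (c : Kˣ) :
    transfer e P (Matrix.GeneralLinearGroup.scalar κ c) = Matrix.GeneralLinearGroup.scalar ι c := by
  show P * reGL e _ * P⁻¹ = _
  rw [reGL_scalar]
  refine Units.ext ?_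
  show mval P * mval _ * mval P⁻¹ = mval _
  rw [mval_scalar, Matrix.mul_smul, Matrix.mul_one, Matrix.smul_mul, Units.mul_inv]

theorem transfer_det (e : κ ≃ ι) (P : GL ι K) (k : GL κ K) :
    (mval (transfer e P k)).det = (mval k).det := by
  show (mval P * mval (reGL e k) * mval P⁻¹).det = _
  rw [Matrix.det_mul, Matrix.det_mul, mul_right_comm, ← Matrix.det_mul, Units.mul_inv, Matrix.det_one, one_mul,
    mval_reGL, Matrix.det_submatrix_equiv_self]

theorem transfer_mem {J : Matrix ι ι K} {M : Matrix κ κ K} {e : κ ≃ ι} {P : GL ι K} {c : Kˣ}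
    (h : (mval P)ᵀ * J * mval P = (c : K) • M.submatrix e.symm e.symm) {k : GL κ K} {d : K} :
    (mval (transfer e P k))ᵀ * J * mval (transfer e P k) = d • J ↔ (mval k)ᵀ * M * mval k = d • M := by
  set R := mval (reGL e k)
  have e1 : (mval P)ᵀ * ((mval (transfer e P k))ᵀ * J * mval (transfer e P k)) * mval P =
      (c : K) • ((mval k)ᵀ * M * mval k).submatrix e.symm e.symm := by
    have hT : mval (transfer e P k) * mval P = mval P * R := by
      show mval P * R * mval P⁻¹ * mval P = _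
      rw [Matrix.mul_assoc, Units.inv_mul, Matrix.mul_one]
    rw [show (mval P)ᵀ * ((mval (transfer e P k))ᵀ * J * mval (transfer e P k)) * mval P =
      (mval (transfer e P k) * mval P)ᵀ * J * (mval (transfer e P k) * mval P) by
        simp only [Matrix.transpose_mul, Matrix.mul_assoc], hT, Matrix.transpose_mul,
      show Rᵀ * (mval P)ᵀ * J * (mval P * R) = Rᵀ * ((mval P)ᵀ * J * mval P) * R by simp only [Matrix.mul_assoc], h,
      Matrix.mul_smul, Matrix.smul_mul, show R = (mval k).submatrix e.symm e.symm from mval_reGL e k,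
      Matrix.transpose_submatrix, Matrix.submatrix_mul_equiv, Matrix.submatrix_mul_equiv]
  constructor
  · intro H
    rw [H, Matrix.mul_smul, Matrix.smul_mul, h, smul_comm, ← sub_smul] at e1
    have h2 := congrArg (fun X => X.submatrix e e) (smul_right_injective _ c.ne_zero e1)
    simpa [Matrix.submatrix_submatrix] using h2.symm
  · intro H
    rw [H, sub_smul] at e1
    change _ = (c : K) • (d • M.submatrix e.symm e.symm) at e1
    rw [smul_comm, ← h] at e1
    calc (mval (transfer e P k))ᵀ * J * mval (transfer e P k)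
        = (mval P⁻¹)ᵀ * ((mval P)ᵀ * ((mval (transfer e P k))ᵀ * J * mval (transfer e P k)) * mval P) *
            mval P⁻¹ := by
          rw [Matrix.mul_assoc ((mval P⁻¹)ᵀ), Matrix.mul_assoc ((mval P)ᵀ * _), Units.mul_inv, Matrix.mul_one,
            ← Matrix.mul_assoc, ← Matrix.transpose_mul, Units.mul_inv, Matrix.transpose_one, Matrix.one_mul]
      _ = _ := by
          rw [e1, Matrix.mul_smul, Matrix.smul_mul, Matrix.mul_assoc ((mval P⁻¹)ᵀ), Matrix.mul_assoc ((mval P)ᵀ * J),
            Units.mul_inv, Matrix.mul_one, ← Matrix.mul_assoc, ← Matrix.transpose_mul, Units.mul_inv,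
            Matrix.transpose_one, Matrix.one_mul]

/-- An isomorphism fixing the scalars passes to the quotients. -/
theorem projQuot_congr {H : Subgroup (GL κ K)} {H' : Subgroup (GL ι K)} (φ : GL κ K ≃* GL ι K)
    (hH : ∀ k, φ k ∈ H' ↔ k ∈ H)
    (hs : ∀ c, φ (Matrix.GeneralLinearGroup.scalar κ c) = Matrix.GeneralLinearGroup.scalar ι c) :
    Nonempty (Cfsg.projQuot H' ≃* Cfsg.projQuot H) := by
  have hmap : H.map φ.toMonoidHom = H' := by
    ext x
    constructor
    · rintro ⟨k, hk, rfl⟩; exact (hH k).2 hk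
    · intro hx; exact ⟨φ.symm x, (hH _).1 (by rwa [φ.apply_symm_apply]), φ.apply_symm_apply x⟩
  let ψ : ↥H ≃* ↥H' := (φ.subgroupMap H).trans (MulEquiv.subgroupCongr hmap)
  refine ⟨(QuotientGroup.congr _ _ ψ ?_).symm⟩
  ext x
  rw [Subgroup.mem_map, Subgroup.mem_subgroupOf]
  constructor
  · rintro ⟨y, hy, rfl⟩
    obtain ⟨c, hc⟩ := mem_scalars (Subgroup.mem_subgroupOf.1 hy)
    show φ y.1 ∈ _
    rw [hc, hs]
    exact scalar_mem c
  · intro hx
    obtain ⟨c, hc⟩ := mem_scalars hx
    refine ⟨ψ.symm x, ?_, ψ.apply_symm_apply x⟩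
    rw [Subgroup.mem_subgroupOf]
    have e : (ψ.symm x).1 = Matrix.GeneralLinearGroup.scalar κ c := φ.injective (by
      rw [hs, ← hc]
      exact congrArg Subtype.val (ψ.apply_symm_apply x))
    rw [e]
    exact scalar_mem c

theorem Sim.projQuot_equiv {J : Matrix ι ι K} {M : Matrix κ κ K} (h : Sim J M) :
    Nonempty (Cfsg.projQuot (simG J) ≃* Cfsg.projQuot (simG M)) := by
  obtain ⟨e, P, c, h⟩ := h
  refine projQuot_congr (transfer e P) (fun k => ?_) (transfer_scalar e P)
  simp only [mem_simG, transfer_mem h]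

/-- The possible pairs of multiplier and determinant are invariant. -/
theorem Sim.det_pair {J : Matrix ι ι K} {M : Matrix κ κ K} (h : Sim J M) {d δ : K} :
    (∃ k : GL ι K, (mval k)ᵀ * J * mval k = d • J ∧ (mval k).det = δ) ↔
      ∃ k : GL κ K, (mval k)ᵀ * M * mval k = d • M ∧ (mval k).det = δ := by
  obtain ⟨e, P, c, h⟩ := h
  constructor
  · rintro ⟨k, hk, hδ⟩
    refine ⟨(transfer e P).symm k, (transfer_mem h).1 ?_, ?_⟩
    · rwa [MulEquiv.apply_symm_apply]
    · rw [← hδ, ← transfer_det e P, MulEquiv.apply_symm_apply]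
  · rintro ⟨k, hk, hδ⟩
    exact ⟨transfer e P k, (transfer_mem h).2 hk, by rw [transfer_det, hδ]⟩

/-- A complement of the scalars inside a group of matrices. -/
theorem projQuot_of_complement {G : Type*} [Group G] {H : Subgroup (GL ι K)} (φ : G →* GL ι K)
    (h1 : ∀ g, φ g ∈ H) (h2 : ∀ g, φ g ∈ Cfsg.Geo.scalars ι K → g = 1)
    (h3 : ∀ k ∈ H, ∃ (t : Kˣ) (g : G), k = Matrix.GeneralLinearGroup.scalar ι t * φ g) :
    Nonempty (Cfsg.projQuot H ≃* G) := by
  let ψ : G →* Cfsg.projQuot H := (QuotientGroup.mk' _).comp (φ.codRestrict H h1)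
  refine ⟨(MulEquiv.ofBijective ψ ⟨?_, ?_⟩).symm⟩
  · refine (injective_iff_map_eq_one _).2 fun g hg => h2 g ?_
    exact Subgroup.mem_subgroupOf.1 ((QuotientGroup.eq_one_iff _).1 hg)
  · intro x
    induction x using QuotientGroup.induction_on with | H y => ?_
    obtain ⟨k, hk⟩ := y
    obtain ⟨t, g, rfl⟩ := h3 k hk
    refine ⟨g, QuotientGroup.eq.2 (Subgroup.mem_subgroupOf.2 ?_)⟩
    show (φ g)⁻¹ * (Matrix.GeneralLinearGroup.scalar ι t * φ g) ∈ _
    rw [← mul_assoc]
    simpa using Cfsg.Geo.scalars_normal.conj_mem _ (scalar_mem t) (φ g)⁻¹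

end Cfsg.Agent.GraphForms
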