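import Cfsg.Agent.GraphForms.Classify
import Cfsg.Agent.Classical.OddCharTwo
import Cfsg.Prelude.Def_ClassicalGeometry

/-!
The groups of similitudes modulo scalars of the standard matrices.
-/

set_option autoImplicit false

namespace Cfsg.Agent.GraphForms

open Matrix Module QuadraticMap
open scoped MatrixGroups

variable {K : Type*} [Field K] {ι : Type} [Fintype ι] [DecidableEq ι] {m : ℕ}

theorem pgo_equiv (h2 : (2 : K) ≠ 0) (Q : QuadraticForm K (ι → K)) :
    Nonempty (Cfsg.projQuot (simG (polMat Q)) ≃* Cfsg.PGO K ⇑Q) := by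
  refine projQuot_congr (MulEquiv.refl _) (fun k => ?_) (fun _ => rfl) |>.map MulEquiv.symm
  rw [quadSim_eq h2]
  exact Iff.rfl

theorem pgo_odd (h2 : (2 : K) ≠ 0) :
    Nonempty (Cfsg.projQuot (simG (oddM K m)) ≃* Cfsg.PGO K (Cfsg.quadFormOdd m K)) := pgo_equiv h2 _

theorem pgo_plus (h2 : (2 : K) ≠ 0) :
    Nonempty (Cfsg.projQuot (simG (plusM K m)) ≃* Cfsg.PGO K (Cfsg.quadFormPlus m K)) := pgo_equiv h2 _

theorem pgo_minus (h2 : (2 : K) ≠ 0) (a b : K) :
    Nonempty (Cfsg.projQuot (simG (minusM K m a b)) ≃* Cfsg.PGO K (Cfsg.quadFormMinus m K a b)) := pgo_equiv h2 _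

theorem pgsp_equiv : Nonempty (Cfsg.projQuot (simG (Matrix.J (Fin m) K)) ≃* Cfsg.PGSp m K) := by
  refine projQuot_congr (MulEquiv.refl _) (fun k => ?_) (fun _ => rfl) |>.map MulEquiv.symm
  rw [gsp_eq]
  exact Iff.rfl

/-! ### Characteristic two -/

section CharTwo

variable [Finite K] [CharP K 2]

theorem exists_sqrt (c : K) : ∃ t : K, c = t * t :=
  ⟨(frobeniusEquiv K 2).symm c, by rw [← pow_two, ← frobeniusEquiv_def (R := K) (p := 2), RingEquiv.apply_symm_apply]⟩

omit [Finite K] in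
theorem sq_inj {a : K} (h : a * a = 1) : a = 1 := by
  rcases mul_self_eq_one_iff.1 h with h | h
  · exact h
  · rw [h, CharTwo.neg_eq]

omit [Finite K] in
theorem neg_mat {κ : Type} (M : Matrix κ κ K) : -M = M := Matrix.ext fun _ _ => CharTwo.neg_eq _

/-- A similitude is a scalar times an isometry. -/
theorem exists_iso_of_sim {J : Matrix ι ι K} {k : GL ι K} (h : k ∈ simG J) :
    ∃ (t : Kˣ) (u : GL ι K), k = Matrix.GeneralLinearGroup.scalar ι t * u ∧ (mval u)ᵀ * J * mval u = J := by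
  obtain ⟨c, hc⟩ := h
  obtain ⟨t, ht⟩ := exists_sqrt (c : K)
  have ht0 : t ≠ 0 := fun h0 => c.ne_zero (by rw [ht, h0, mul_zero])
  refine ⟨Units.mk0 t ht0, Matrix.GeneralLinearGroup.scalar ι (Units.mk0 t ht0)⁻¹ * k, ?_, ?_⟩
  · rw [← mul_assoc, ← map_mul, mul_inv_cancel, map_one, one_mul]
  · show (mval (Matrix.GeneralLinearGroup.scalar ι _) * mval k)ᵀ * J * (mval _ * mval k) = J
    rw [mval_scalar, Matrix.smul_mul, Matrix.one_mul, Matrix.transpose_smul, Matrix.smul_mul, Matrix.smul_mul,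
      Matrix.mul_smul, hc, smul_smul, smul_smul, ht, Units.val_inv_eq_inv_val, Units.val_mk0,
      show t⁻¹ * t⁻¹ * (t * t) = 1 by field_simp, one_smul]

/-- The symplectic group as invertible matrices. -/
def spUnits (m : ℕ) (K : Type*) [Field K] :
    Matrix.symplecticGroup (Fin m) K →* GL (Fin m ⊕ Fin m) K :=
  ((Matrix.symplecticGroup (Fin m) K).subtype).toHomUnits

omit [Finite K] [CharP K 2] in
theorem mval_spUnits (A : Matrix.symplecticGroup (Fin m) K) : mval (spUnits m K A) = A.1 := rfl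

omit [Finite K] in
theorem spUnits_scalar (hm : 1 ≤ m) (A : Matrix.symplecticGroup (Fin m) K)
    (h : spUnits m K A ∈ Cfsg.Geo.scalars (Fin m ⊕ Fin m) K) : A = 1 := by
  obtain ⟨c, hc⟩ := (Cfsg.Geo.mem_scalars_iff _).1 h
  have hA : A.1 = (c : K) • 1 := hc
  have h1 := SymplecticGroup.mem_iff'.1 A.2
  rw [hA, Matrix.transpose_smul, Matrix.transpose_one, Matrix.smul_mul, Matrix.one_mul, Matrix.mul_smul, Matrix.mul_one,
    smul_smul] at h1
  have h3 := congrFun (congrFun h1 (Sum.inr ⟨0, hm⟩)) (Sum.inl ⟨0, hm⟩)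
  simp [Matrix.J] at h3
  exact Subtype.ext (by rw [hA, sq_inj h3, one_smul]; rfl)

theorem symp_char_two (hm : 1 ≤ m) :
    Nonempty (Cfsg.projQuot (simG (Matrix.J (Fin m) K)) ≃* Matrix.symplecticGroup (Fin m) K) := by
  refine projQuot_of_complement (spUnits m K) (fun A => ⟨1, ?_⟩) (spUnits_scalar hm) fun k hk => ?_
  · rw [Units.val_one, one_smul]
    exact SymplecticGroup.mem_iff'.1 A.2
  · obtain ⟨t, u, rfl, hu⟩ := exists_iso_of_sim hk
    exact ⟨t, ⟨mval u, SymplecticGroup.mem_iff'.2 hu⟩, congrArg _ (Units.ext rfl)⟩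

/-- A non-alternating model in odd dimension. -/
noncomputable def oddM2 (K : Type*) [Field K] (m : ℕ) :
    Matrix (Unit ⊕ (Fin m ⊕ Fin m)) (Unit ⊕ (Fin m ⊕ Fin m)) K :=
  Matrix.fromBlocks 1 0 0 (Matrix.J (Fin m) K)

omit [Finite K] in
theorem oddM2_symm : (oddM2 K m)ᵀ = oddM2 K m := by
  rw [oddM2, Matrix.fromBlocks_transpose, J_transpose', neg_mat, Matrix.transpose_one, Matrix.transpose_zero,
    Matrix.transpose_zero]

omit [Finite K] [CharP K 2] in
theorem oddM2_det : (oddM2 K m).det ≠ 0 := by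
  rw [oddM2, Matrix.det_fromBlocks_zero₂₁, Matrix.det_one, one_mul]
  exact J_det_ne_zero m

omit [Finite K] [CharP K 2] in
theorem oddM2_nonAlt : ¬ IsAltMat (oddM2 K m) := fun h => by
  have := h (Pi.single (Sum.inl ()) 1)
  simp [oddM2, Matrix.mulVec_single_one, single_dotProduct] at this

/-- The block embedding of the symplectic group. -/
def blockHom (m : ℕ) (K : Type*) [Field K] :
    Matrix.symplecticGroup (Fin m) K →* GL (Unit ⊕ (Fin m ⊕ Fin m)) K :=
  ({ toFun := fun A : Matrix.symplecticGroup (Fin m) K => Matrix.fromBlocks (1 : Matrix Unit Unit K) 0 0 A.1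
     map_one' := by rw [Submonoid.coe_one, Matrix.fromBlocks_one]
     map_mul' := fun A B => by rw [Submonoid.coe_mul, Matrix.fromBlocks_multiply]; simp } :
    Matrix.symplecticGroup (Fin m) K →* Matrix (Unit ⊕ (Fin m ⊕ Fin m)) (Unit ⊕ (Fin m ⊕ Fin m)) K).toHomUnits

omit [Finite K] in
theorem diag_alt {B : Matrix (Fin m ⊕ Fin m) (Fin m ⊕ Fin m) K} (i : Fin m ⊕ Fin m) :
    (Bᵀ * Matrix.J (Fin m) K * B) i i = 0 := by
  have := dot_conj (Matrix.J (Fin m) K) B (Pi.single i 1) (Pi.single i 1)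
  rw [J_isAlt m] at this
  simpa [Matrix.mulVec_single_one, single_dotProduct] using this

theorem odd_char_two_sim :
    Nonempty (Cfsg.projQuot (simG (oddM2 K m)) ≃* Matrix.symplecticGroup (Fin m) K) := by
  refine projQuot_of_complement (blockHom m K) (fun A => ⟨1, ?_⟩) (fun A h => ?_) fun k hk => ?_
  · rw [Units.val_one, one_smul]
    show (Matrix.fromBlocks (1 : Matrix Unit Unit K) 0 0 A.1)ᵀ * oddM2 K m * Matrix.fromBlocks 1 0 0 A.1 = _
    rw [oddM2, Matrix.fromBlocks_transpose, Matrix.fromBlocks_multiply, Matrix.fromBlocks_multiply]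
    simp [SymplecticGroup.mem_iff'.1 A.2]
  · obtain ⟨c, hc⟩ := (Cfsg.Geo.mem_scalars_iff _).1 h
    have hc' : Matrix.fromBlocks (1 : Matrix Unit Unit K) 0 0 A.1 = (c : K) • 1 := hc
    have h1 := congrFun (congrFun hc' (Sum.inl ())) (Sum.inl ())
    simp at h1
    rw [← h1, one_smul, ← Matrix.fromBlocks_one, Matrix.fromBlocks_inj] at hc'
    exact Subtype.ext hc'.2.2.2
  · obtain ⟨t, u, rfl, hu⟩ := exists_iso_of_sim hk
    obtain ⟨a, B, C, D, hU⟩ : ∃ a B C D, mval u = Matrix.fromBlocks a B C D :=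
      ⟨_, _, _, _, (Matrix.fromBlocks_toBlocks (mval u)).symm⟩
    rw [hU, oddM2, Matrix.fromBlocks_transpose, Matrix.fromBlocks_multiply, Matrix.fromBlocks_multiply,
      Matrix.fromBlocks_inj] at hu
    simp only [Matrix.mul_one, Matrix.mul_zero, add_zero, zero_add] at hu
    obtain ⟨h11, h12, -, h22⟩ := hu
    have hB : B = 0 := by
      ext x i
      have h := congrFun (congrFun h22 i) i
      rw [Matrix.add_apply, diag_alt] at h
      simpa [Matrix.J, Matrix.mul_apply, Sum.forall] using (show (Bᵀ * B) i i = 0 by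
        rcases i with i | i <;> simpa [Matrix.J] using h)
    rw [hB] at h22 h12
    simp only [Matrix.transpose_zero, Matrix.zero_mul, Matrix.mul_zero, zero_add] at h22 h12
    have hD : IsUnit D := by
      refine (Matrix.isUnit_iff_isUnit_det _).2 (isUnit_iff_ne_zero.2 fun h0 => J_det_ne_zero (K := K) m ?_)
      rw [← h22, Matrix.det_mul, h0, mul_zero]
    have hC : C = 0 := by
      have h2 : Cᵀ * Matrix.J (Fin m) K = 0 := by
        rw [← Matrix.mul_nonsing_inv_cancel_right (A := D) (Cᵀ * Matrix.J (Fin m) K)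
          ((Matrix.isUnit_iff_isUnit_det _).1 hD), h12, Matrix.zero_mul]
      refine Matrix.transpose_eq_zero.1 ?_
      rw [← Matrix.mul_nonsing_inv_cancel_right (A := Matrix.J (Fin m) K) Cᵀ (Matrix.isUnit_det_J (Fin m) K), h2,
        Matrix.zero_mul]
    rw [hC] at h11
    simp only [Matrix.transpose_zero, Matrix.zero_mul, add_zero] at h11
    have ha : a = 1 := by
      ext x y
      have h := congrFun (congrFun h11 x) y
      simp [Matrix.mul_apply] at h
      simp [sq_inj h]
    refine ⟨t, ⟨D, SymplecticGroup.mem_iff'.2 h22⟩, congrArg _ (Units.ext ?_)⟩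
    show mval u = Matrix.fromBlocks 1 0 0 D
    rw [hU, ha, hB, hC]

theorem pgo_odd_char_two :
    Nonempty (Cfsg.PGO K (Cfsg.quadFormOdd m K) ≃* Matrix.symplecticGroup (Fin m) K) := by
  obtain ⟨e⟩ := Classical.Quad.exists_oddTwo_equiv (F := K) (m := m)
  have hone : Cfsg.quadFormOdd m K (Pi.single (Sum.inl ()) 1) = 1 := by simp [Cfsg.quadFormOdd]
  have h : Nonempty (Cfsg.PGO K (Cfsg.quadFormOdd m K) ≃* Cfsg.isometryGroup K (Cfsg.quadFormOdd m K)) := by
    refine projQuot_of_complement (Subgroup.subtype _) (fun g => ⟨1, fun v => ?_⟩) (fun g h => ?_) fun k hk => ?_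
    · rw [Units.val_one, one_mul]
      exact g.2 v v
    · obtain ⟨c, hc⟩ := (Cfsg.Geo.mem_scalars_iff _).1 h
      have hc' : mval g.1 = (c : K) • 1 := hc
      have h1 : Cfsg.quadFormOdd m K (mval g.1 *ᵥ Pi.single (Sum.inl ()) 1) =
          Cfsg.quadFormOdd m K (Pi.single (Sum.inl ()) 1) := g.2 _ (Pi.single (Sum.inl ()) 1)
      rw [hc', Matrix.smul_mulVec, Matrix.one_mulVec, ← AutPOmega.qOdd_apply, Classical.Quad.map_smul',
        AutPOmega.qOdd_apply, hone, mul_one] at h1
      exact Subtype.ext (Units.ext (hc'.trans (by rw [sq_inj h1, one_smul]; rfl)))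
    · obtain ⟨c, hc⟩ := hk
      obtain ⟨t, ht⟩ := exists_sqrt (c : K)
      have ht0 : t ≠ 0 := fun h0 => c.ne_zero (by rw [ht, h0, mul_zero])
      refine ⟨Units.mk0 t ht0, ⟨Matrix.GeneralLinearGroup.scalar _ (Units.mk0 t ht0)⁻¹ * k, fun v _ => ?_⟩, ?_⟩
      · show Cfsg.quadFormOdd m K (mval (Matrix.GeneralLinearGroup.scalar _ _ * k) *ᵥ v) = _
        show Cfsg.quadFormOdd m K ((mval (Matrix.GeneralLinearGroup.scalar _ _) * mval k) *ᵥ v) = _
        rw [mval_scalar, Matrix.smul_mul, Matrix.one_mul, Matrix.smul_mulVec, ← AutPOmega.qOdd_apply,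
          Classical.Quad.map_smul', AutPOmega.qOdd_apply, hc, ht, Units.val_inv_eq_inv_val, Units.val_mk0]
        field_simp
      · show k = _ * (_ * k)
        rw [← mul_assoc, ← map_mul, mul_inv_cancel, map_one, one_mul]
  exact ⟨h.some.trans e⟩

/-- A non-alternating model in even dimension. -/
noncomputable def evenM2 (K : Type*) [Field K] (m : ℕ) (hm : 1 ≤ m) :
    Matrix (Fin m ⊕ Fin m) (Fin m ⊕ Fin m) K :=
  Matrix.J (Fin m) K + Matrix.single (Sum.inl ⟨0, hm⟩) (Sum.inl ⟨0, hm⟩) 1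

/-- The transvection. -/
noncomputable def transv (K : Type*) [Field K] (m : ℕ) (hm : 1 ≤ m) : Matrix (Fin m ⊕ Fin m) (Fin m ⊕ Fin m) K :=
  1 + Matrix.single (Sum.inr ⟨0, hm⟩) (Sum.inl ⟨0, hm⟩) 1

omit [Finite K] in
theorem evenM2_symm (hm : 1 ≤ m) : (evenM2 K m hm)ᵀ = evenM2 K m hm := by
  rw [evenM2, Matrix.transpose_add, J_transpose', neg_mat, Matrix.transpose_single]

omit [Finite K] [CharP K 2] in
theorem evenM2_nonAlt (hm : 1 ≤ m) : ¬ IsAltMat (evenM2 K m hm) := fun h => by
  have := h (Pi.single (Sum.inl ⟨0, hm⟩) 1)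
  simp [evenM2, Matrix.J, Matrix.mulVec_single_one, single_dotProduct] at this

omit [Finite K] [CharP K 2] in
theorem evenM2_det (hm : 1 ≤ m) : (evenM2 K m hm).det ≠ 0 := by
  intro h0
  obtain ⟨v, hv, hv0⟩ := Matrix.exists_mulVec_eq_zero_iff.2 h0
  have hJ : ∀ i, (Matrix.J (Fin m) K *ᵥ v) (Sum.inl i) = -v (Sum.inr i) ∧
      (Matrix.J (Fin m) K *ᵥ v) (Sum.inr i) = v (Sum.inl i) := fun i => by
    simp [Matrix.J, Matrix.fromBlocks_mulVec, Matrix.neg_mulVec]
  rw [evenM2, Matrix.add_mulVec, Matrix.single_mulVec] at hv0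
  have hl : ∀ i, v (Sum.inl i) = 0 := fun i => by
    simpa [(hJ i).2, Function.update] using congrFun hv0 (Sum.inr i)
  have hr : ∀ i, v (Sum.inr i) = 0 := fun i => by
    have := congrFun hv0 (Sum.inl i)
    simpa [(hJ i).1, Function.update, hl] using this
  exact hv (funext fun x => by rcases x with i | i <;> simp [hl, hr])

omit [Finite K] [CharP K 2] in
theorem J_single_left (hm : 1 ≤ m) :
    Matrix.single (Sum.inl ⟨0, hm⟩) (Sum.inr ⟨0, hm⟩) (1 : K) * Matrix.J (Fin m) K =
      Matrix.single (Sum.inl ⟨0, hm⟩) (Sum.inl ⟨0, hm⟩) 1 := by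
  ext i j
  rcases i with i | i <;> rcases j with j | j <;>
    simp [Matrix.mul_apply, Fintype.sum_sum_type, Matrix.J, Matrix.single_apply, Matrix.one_apply, ite_and] <;> grind

omit [Finite K] [CharP K 2] in
theorem J_single_right (hm : 1 ≤ m) :
    Matrix.J (Fin m) K * Matrix.single (Sum.inr ⟨0, hm⟩) (Sum.inl ⟨0, hm⟩) (1 : K) =
      -Matrix.single (Sum.inl ⟨0, hm⟩) (Sum.inl ⟨0, hm⟩) 1 := by
  ext i j
  rcases i with i | i <;> rcases j with j | j <;>
    simp [Matrix.mul_apply, Fintype.sum_sum_type, Matrix.J, Matrix.single_apply, Matrix.one_apply, ite_and] <;> grind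

omit [Finite K] [CharP K 2] in
theorem transv_mem (hm : 1 ≤ m) : transv K m hm ∈ Matrix.symplecticGroup (Fin m) K := by
  rw [SymplecticGroup.mem_iff', transv, Matrix.transpose_add, Matrix.transpose_one, Matrix.transpose_single,
    Matrix.add_mul, Matrix.one_mul, J_single_left, Matrix.mul_add, Matrix.mul_one, Matrix.add_mul, J_single_right,
    Matrix.single_mul_single_of_ne (1 : K) _ _ _ (Sum.inl_ne_inr) (1 : K)]
  abel

omit [Finite K] [CharP K 2] in
theorem transv_isTransvection (hm : 1 ≤ m) : Cfsg.IsTransvection (transv K m hm) := by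
  refine ⟨?_, ?_⟩
  · rw [transv, add_sub_cancel_left]
    refine le_antisymm ?_ ?_
    · rw [show (Matrix.single (Sum.inr ⟨0, hm⟩) (Sum.inl ⟨0, hm⟩) 1 : Matrix (Fin m ⊕ Fin m) (Fin m ⊕ Fin m) K) =
        Matrix.vecMulVec (Pi.single (Sum.inr ⟨0, hm⟩) 1) (Pi.single (Sum.inl ⟨0, hm⟩) 1) by
          ext i j; simp [Matrix.vecMulVec_apply, Pi.single_apply, Matrix.single_apply]; grind]
      exact Matrix.rank_vecMulVec_le _ _
    · refine Submodule.one_le_finrank_iff.2 fun h => ?_
      have h1 : (Matrix.single (Sum.inr ⟨0, hm⟩) (Sum.inl ⟨0, hm⟩) 1 : Matrix (Fin m ⊕ Fin m) (Fin m ⊕ Fin m) K) *ᵥ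
          Pi.single (Sum.inl ⟨0, hm⟩) 1 = 0 := by
        rw [← Submodule.mem_bot (R := K), ← h]
        exact ⟨_, rfl⟩
      have := congrFun h1 (Sum.inr ⟨0, hm⟩)
      simp [Matrix.mulVec_single_one] at this
  · rw [transv, add_sub_cancel_left, Matrix.single_mul_single_of_ne (1 : K) _ _ _ (Sum.inl_ne_inr) (1 : K)]

theorem even_char_two_sim (hm : 1 ≤ m) :
    Nonempty (Cfsg.projQuot (simG (evenM2 K m hm)) ≃* ↥(Subgroup.centralizer
      ({⟨transv K m hm, transv_mem hm⟩} : Set ↥(Matrix.symplecticGroup (Fin m) K)))) := by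
  set p : Fin m ⊕ Fin m := Sum.inl ⟨0, hm⟩ with hp
  set q : Fin m ⊕ Fin m := Sum.inr ⟨0, hm⟩ with hq
  set J := Matrix.J (Fin m) K
  have hpq : p ≠ q := by simp [hp, hq]
  have hJp : J *ᵥ Pi.single p 1 = Pi.single q 1 := by
    funext i; rcases i with i | i <;> simp [J, hp, hq, Matrix.J, Matrix.one_apply, Pi.single_apply]
  have hJq : J *ᵥ Pi.single q 1 = Pi.single p 1 := by
    funext i; rcases i with i | i <;>
      simp [J, hp, hq, Matrix.J, Matrix.one_apply, Pi.single_apply, CharTwo.neg_eq]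
  -- membership in both groups is the same condition
  have hiso : ∀ A : Matrix (Fin m ⊕ Fin m) (Fin m ⊕ Fin m) K, Aᵀ * evenM2 K m hm * A = evenM2 K m hm ↔
      Aᵀ * J * A = J ∧ ∀ j, A p j = if j = p then 1 else 0 := by
    intro A
    have e : Aᵀ * evenM2 K m hm * A = Aᵀ * J * A + Matrix.vecMulVec (A p) (A p) := by
      rw [evenM2, Matrix.mul_add, Matrix.add_mul]
      congr 1
      ext i j
      simp [Matrix.mul_apply, Matrix.single_apply, Matrix.vecMulVec_apply, ite_and, hp]
    have e0 : (∀ j, A p j = if j = p then 1 else 0) →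
        Matrix.vecMulVec (A p) (A p) = Matrix.single p p (1 : K) := fun h => by
      ext i j
      rw [Matrix.vecMulVec_apply, h, h, Matrix.single_apply]
      grind
    constructor
    · intro h
      rw [e, evenM2] at h
      have hr : ∀ j, A p j = if j = p then 1 else 0 := fun j => by
        have h1 := congrFun (congrFun h j) j
        rw [Matrix.add_apply, diag_alt, zero_add, Matrix.vecMulVec_apply] at h1
        have hJ0 : J j j = 0 := by
          rcases j with j | j <;> simp [J, Matrix.J]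
        rw [Matrix.add_apply, show Matrix.J (Fin m) K j j = 0 from hJ0, zero_add, Matrix.single_apply] at h1
        by_cases hj : j = p
        · subst hj
          rw [if_pos ⟨rfl, rfl⟩] at h1
          rw [if_pos rfl]
          exact sq_inj h1
        · rw [if_neg fun h => hj h.1.symm] at h1
          rw [if_neg hj]
          exact mul_self_eq_zero.1 h1
      rw [e0 hr] at h
      exact ⟨add_right_cancel h, hr⟩
    · rintro ⟨h, hr⟩
      rw [e, e0 hr, h, evenM2]
  have hcomm : ∀ A : ↥(Matrix.symplecticGroup (Fin m) K),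
      A ∈ Subgroup.centralizer ({⟨transv K m hm, transv_mem hm⟩} : Set ↥(Matrix.symplecticGroup (Fin m) K)) ↔
        ∀ j, A.1 p j = if j = p then 1 else 0 := by
    intro A
    have hA := SymplecticGroup.mem_iff'.1 A.2
    rw [Subgroup.mem_centralizer_singleton_iff, Subtype.ext_iff, Submonoid.coe_mul, Submonoid.coe_mul]
    show A.1 * transv K m hm = transv K m hm * A.1 ↔ _
    rw [transv, Matrix.mul_add, Matrix.add_mul, Matrix.mul_one, Matrix.one_mul, add_right_inj, ← hp, ← hq]
    constructor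
    · intro h
      have he : ∀ i j, (if j = p then A.1 i q else 0) = if i = q then A.1 p j else 0 := fun i j => by
        have h1 := congrFun (congrFun h i) j
        simp [Matrix.mul_apply, Matrix.single_apply, ite_and] at h1
        grind
      have hrow : ∀ j, j ≠ p → A.1 p j = 0 := fun j hj => by
        have := he q j
        rwa [if_neg hj, if_pos rfl, eq_comm] at this
      have hqq : A.1 q q = A.1 p p := by simpa using he q p
      have hcol : A.1 *ᵥ Pi.single q 1 = A.1 p p • Pi.single q 1 := by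
        funext i
        rw [Matrix.mulVec_single_one]
        by_cases hi : i = q
        · subst hi; simp [hqq]
        · have := he i p
          rw [if_pos rfl, if_neg hi] at this
          simp [this, hi]
      have h1 := dot_conj J A.1 (Pi.single p 1) (Pi.single q 1)
      rw [hA, hcol, Matrix.mulVec_smul, hJq, dotProduct_smul] at h1
      simp [Matrix.mulVec_single_one, single_dotProduct, dotProduct_single] at h1
      intro j
      by_cases hj : j = p
      · subst hj; rw [if_pos rfl]; exact sq_inj h1.symm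
      · rw [if_neg hj]; exact hrow j hj
    · intro hr
      have hT : A.1ᵀ *ᵥ Pi.single p 1 = Pi.single p 1 := by
        rw [Matrix.mulVec_single_one]; funext j; simp [hr, Pi.single_apply]
      have hdet : A.1ᵀ.det ≠ 0 := by
        rw [Matrix.det_transpose, SymplecticGroup.det_eq_one A.2]; exact one_ne_zero
      have h2 : J *ᵥ (A.1 *ᵥ Pi.single q 1) = Pi.single p 1 := by
        refine (Matrix.mulVec_injective_iff_isUnit.2 ((Matrix.isUnit_iff_isUnit_det _).2 (isUnit_iff_ne_zero.2 hdet))) ?_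
        rw [hT, Matrix.mulVec_mulVec, Matrix.mulVec_mulVec, hA, hJq]
      have hcol : A.1 *ᵥ Pi.single q 1 = Pi.single q 1 := by
        refine (Matrix.mulVec_injective_iff_isUnit.2 ((Matrix.isUnit_iff_isUnit_det _).2
          (Matrix.isUnit_det_J (Fin m) K))) ?_
        rw [h2, hJq]
      ext i j
      have hc := congrFun hcol i
      rw [Matrix.mulVec_single_one] at hc
      simp [Matrix.mul_apply, Matrix.single_apply, ite_and, Pi.single_apply] at hc ⊢
      grind
  refine projQuot_of_complement ((spUnits m K).comp (Subgroup.subtype _)) (fun A => ⟨1, ?_⟩)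
    (fun A h => Subtype.ext (spUnits_scalar hm A.1 h)) fun k hk => ?_
  · rw [Units.val_one, one_smul]
    exact (hiso _).2 ⟨SymplecticGroup.mem_iff'.1 A.1.2, (hcomm A.1).1 A.2⟩
  · obtain ⟨t, u, rfl, hu⟩ := exists_iso_of_sim hk
    obtain ⟨h1, h2⟩ := (hiso _).1 hu
    exact ⟨t, ⟨⟨mval u, SymplecticGroup.mem_iff'.2 h1⟩, (hcomm _).2 h2⟩, congrArg _ (Units.ext rfl)⟩

end CharTwo

end Cfsg.Agent.GraphForms
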